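import Mathlib

/-! Etaleness from bijectivity of the conormal map of two sections (affine form). -/

set_option autoImplicit false
set_option backward.isDefEq.respectTransparency false
set_option backward.isDefEq.respectTransparency.types false

universe u

open TensorProduct

namespace Groth.Agent.EtCot

variable {A B₁ B₂ : Type u} [CommRing A] [CommRing B₁] [CommRing B₂] [Algebra A B₁] [Algebra A B₂]
  [Algebra B₂ B₁] [IsScalarTower A B₂ B₁]

lemma smul_tensor_eq_zero {B κ M : Type u} [CommRing B] [CommRing κ] [Algebra B₁ B] [Algebra B κ]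
    [Algebra B₁ κ] [IsScalarTower B₁ B κ] [AddCommGroup M] [Module B M]
    (j : B₁) (hj : algebraMap B₁ κ j = 0) (t : κ ⊗[B] M) : j • t = 0 := by
  induction t with
  | zero => simp
  | tmul a m => rw [TensorProduct.smul_tmul', Algebra.smul_def, hj, zero_mul, TensorProduct.zero_tmul]
  | add x y hx hy => rw [smul_add, hx, hy, add_zero]

lemma isEtaleAt [Algebra.FinitePresentation A B₁] [Algebra.FiniteType A B₂]
    (σ₁ : B₁ →ₐ[A] A) (σ₂ : B₂ →ₐ[A] A) (hσ : σ₁.comp (IsScalarTower.toAlgHom A B₂ B₁) = σ₂)
    (hle : RingHom.ker σ₂ ≤ (RingHom.ker σ₁).comap (IsScalarTower.toAlgHom A B₂ B₁))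
    (hcot : Function.Bijective
      (Ideal.mapCotangent (RingHom.ker σ₂) (RingHom.ker σ₁) (IsScalarTower.toAlgHom A B₂ B₁) hle))
    (P : Ideal B₁) [P.IsPrime] (hP : RingHom.ker σ₁ ≤ P) [hs : Algebra.IsSmoothAt A P] :
    Algebra.IsEtaleAt B₂ P := by
  classical
  let B := Localization.AtPrime P
  let κ := IsLocalRing.ResidueField B
  haveI : Algebra.EssFiniteType A B₁ := inferInstance
  haveI : Algebra.EssFiniteType A B := Algebra.EssFiniteType.comp A B₁ B
  haveI : Algebra.EssFiniteType B₂ B := Algebra.EssFiniteType.of_comp A B₂ B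
  -- killing of the prime on the special fibres
  have hκ : ∀ j ∈ P, algebraMap B₁ κ j = 0 := by
    intro j hj
    rw [IsScalarTower.algebraMap_apply B₁ B κ]
    show IsLocalRing.residue B _ = 0
    rw [IsLocalRing.residue_eq_zero_iff, ← Localization.AtPrime.map_eq_maximalIdeal]
    exact Ideal.mem_map_of_mem _ hj
  have hmemP : ∀ b : B₁, b - algebraMap A B₁ (σ₁ b) ∈ RingHom.ker σ₁ := by
    intro b
    rw [RingHom.mem_ker, map_sub, AlgHom.commutes]
    simp
  -- universal decomposition b - σ b ≡ f x mod J₁²
  have hdec : ∀ b : B₁, ∃ x : RingHom.ker σ₂, b - algebraMap A B₁ (σ₁ b)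
      - algebraMap B₂ B₁ x ∈ (RingHom.ker σ₁) ^ 2 := by
    intro b
    obtain ⟨c, hc⟩ := hcot.2 ((RingHom.ker σ₁).toCotangent ⟨_, hmemP b⟩)
    obtain ⟨x, rfl⟩ := Ideal.toCotangent_surjective _ c
    refine ⟨x, ?_⟩
    have := (Ideal.toCotangent_eq (RingHom.ker σ₁)).mp hc.symm
    exact this
  refine (Algebra.formallyEtale_iff _ _).mpr ⟨?_, ?_⟩
  · -- unramified
    rw [← IsLocalRing.subsingleton_tensorProduct (R := B)]
    let V := κ ⊗[B] Ω[B⁄B₂]
    let d : B₁ → V := fun b ↦ (1 : κ) ⊗ₜ KaehlerDifferential.D B₂ B (algebraMap B₁ B b)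
    have hmul : ∀ a b : B₁, d (a * b) = a • d b + b • d a := by
      intro a b
      simp only [d, map_mul, Derivation.leibniz, TensorProduct.tmul_add, TensorProduct.tmul_smul]
      rw [← IsScalarTower.algebraMap_smul B a, ← IsScalarTower.algebraMap_smul B b]
    have hadd : ∀ a b : B₁, d (a + b) = d a + d b := by
      intro a b; simp only [d, map_add, TensorProduct.tmul_add]
    have hbase : ∀ x : B₂, d (algebraMap B₂ B₁ x) = 0 := by
      intro x
      simp only [d, ← IsScalarTower.algebraMap_apply B₂ B₁ B, Derivation.map_algebraMap,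
        TensorProduct.tmul_zero]
    have hsq : ∀ z ∈ (RingHom.ker σ₁) ^ 2, d z = 0 := by
      intro z hz
      rw [pow_two] at hz
      refine Submodule.mul_induction_on hz (fun a ha b hb ↦ ?_) (fun a b ha hb ↦ by
        rw [hadd, ha, hb, add_zero])
      rw [hmul, smul_tensor_eq_zero a (hκ a (hP ha)), smul_tensor_eq_zero b (hκ b (hP hb)),
        add_zero]
    have hd : ∀ b : B₁, d b = 0 := by
      intro b
      obtain ⟨x, hx⟩ := hdec b
      have hb : b = algebraMap B₂ B₁ (algebraMap A B₂ (σ₁ b) + x) +
          (b - algebraMap A B₁ (σ₁ b) - algebraMap B₂ B₁ x) := by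
        rw [map_add, ← IsScalarTower.algebraMap_apply A B₂ B₁]; ring
      rw [hb, hadd, hbase, hsq _ hx, add_zero]
    have hD : ∀ y : B, (1 : κ) ⊗ₜ[B] KaehlerDifferential.D B₂ B y = 0 := by
      intro y
      obtain ⟨⟨b, s⟩, hbs⟩ := IsLocalization.surj P.primeCompl y
      dsimp only at hbs
      have h1 := hd b
      have h2 := hd (s : B₁)
      simp only [d] at h1 h2
      rw [← hbs, Derivation.leibniz, TensorProduct.tmul_add, TensorProduct.tmul_smul, h2,
        smul_zero, zero_add, TensorProduct.tmul_smul] at h1
      have hu : IsUnit (algebraMap B₁ B (s : B₁)) := IsLocalization.map_units B s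
      exact (hu.smul_eq_zero).mp h1
    refine subsingleton_of_forall_eq 0 fun v ↦ ?_
    induction v with
    | zero => rfl
    | tmul a m =>
      obtain ⟨m, rfl⟩ : ∃ m', m' = m := ⟨m, rfl⟩
      have hm : m ∈ Submodule.span B (Set.range (KaehlerDifferential.D B₂ B)) := by
        rw [KaehlerDifferential.span_range_derivation]; exact Submodule.mem_top
      induction hm using Submodule.span_induction with
      | mem z hz =>
        obtain ⟨y, rfl⟩ := hz
        rw [show a = a • (1 : κ) by simp, ← TensorProduct.smul_tmul', hD, smul_zero]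
      | zero => simp
      | add z w _ _ hz hw => rw [TensorProduct.tmul_add, hz, hw, add_zero]
      | smul r z _ hz => rw [TensorProduct.tmul_smul, hz, smul_zero]
    | add x y hx hy => rw [hx, hy, add_zero]
  · -- H¹ of the cotangent complex
    let M := B ⊗[B₂] Ω[B₂⁄A]
    let T := κ ⊗[B] M
    let φ : M →ₗ[B] Ω[B⁄A] := KaehlerDifferential.mapBaseChange A B₂ B
    haveI : Module.Free B Ω[B⁄A] := Module.free_of_flat_of_isLocalRing
    suffices hφ : Function.Injective φ by
      haveI : Subsingleton (Algebra.H1Cotangent A B) := inferInstance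
      refine subsingleton_of_forall_eq 0 fun z ↦ ?_
      have hz : Algebra.H1Cotangent.δ A B₂ B z = 0 := by
        apply hφ
        rw [map_zero]
        exact (Algebra.H1Cotangent.exact_δ_mapBaseChange A B₂ B).apply_apply_eq_zero z
      obtain ⟨w, rfl⟩ := (Algebra.H1Cotangent.exact_map_δ A B₂ B z).mp hz
      rw [Subsingleton.elim w 0, map_zero]
    suffices hκφ : Function.Injective (φ.lTensor κ) by
      obtain ⟨l, hl⟩ :=
        (IsLocalRing.split_injective_iff_lTensor_residueField_injective φ).mpr hκφ
      exact Function.LeftInverse.injective fun x ↦ LinearMap.congr_fun hl x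
    -- the conormal module to the special fibre
    have hkill : ∀ i ∈ RingHom.ker σ₂, ∀ t : T, i • t = 0 := by
      intro i hi t
      rw [← IsScalarTower.algebraMap_smul B₁ i t]
      exact smul_tensor_eq_zero _ (hκ _ (hP (hle hi))) t
    let ψ₀ : RingHom.ker σ₂ →ₗ[B₂] T :=
      { toFun := fun x ↦ (1 : κ) ⊗ₜ[B] ((1 : B) ⊗ₜ[B₂] KaehlerDifferential.D A B₂ (x : B₂))
        map_add' := fun x y ↦ by
          simp only [Submodule.coe_add, map_add, TensorProduct.tmul_add]
        map_smul' := fun r x ↦ by
          simp only [RingHom.id_apply, SetLike.val_smul, smul_eq_mul, Derivation.leibniz,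
            TensorProduct.tmul_add, TensorProduct.tmul_smul]
          rw [hkill _ x.2, add_zero] }
    let ψ : (RingHom.ker σ₂).Cotangent →ₗ[B₂] T := Submodule.liftQ _ ψ₀ (by
      intro x hx
      refine Submodule.smul_induction_on hx (fun r hr y _ ↦ ?_) (fun a b ha hb ↦ add_mem ha hb)
      rw [LinearMap.mem_ker, map_smul, hkill r hr])
    let e := LinearEquiv.ofBijective _ hcot
    let sub : B₁ →ₗ[A] RingHom.ker σ₁ :=
      { toFun := fun b ↦ ⟨b - algebraMap A B₁ (σ₁ b), hmemP b⟩
        map_add' := fun a b ↦ Subtype.ext (by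
          simp only [map_add, Submodule.coe_add]; ring)
        map_smul' := fun r a ↦ Subtype.ext (by
          simp only [map_smul, smul_eq_mul, map_mul, RingHom.id_apply, SetLike.val_smul_of_tower,
            Algebra.smul_def, Algebra.algebraMap_self, RingHom.id_apply, AlgHom.commutes]; ring) }
    let L : B₁ →ₗ[A] T := (ψ.restrictScalars A).comp (e.symm.toLinearMap.comp
      (((RingHom.ker σ₁).toCotangent.restrictScalars A).comp sub))
    have hscal : ∀ (c : B₁) (t : T), c • t = σ₁ c • t := by
      intro c t
      rw [← IsScalarTower.algebraMap_smul B₁ (σ₁ c) t]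
      conv_lhs => rw [← sub_add_cancel c (algebraMap A B₁ (σ₁ c))]
      rw [add_smul, smul_tensor_eq_zero _ (hκ _ (hP (hmemP c))) t, zero_add]
    have hL : ∀ a b : B₁, L (a * b) = a • L b + b • L a := by
      intro a b
      rw [hscal, hscal, ← map_smul L, ← map_smul L, ← map_add L]
      simp only [L, LinearMap.comp_apply, LinearMap.restrictScalars_apply]
      congr 2
      rw [Ideal.toCotangent_eq, pow_two]
      have : (sub (a * b) : B₁) - (sub (σ₁ a • b + σ₁ b • a) : B₁) = (sub a : B₁) * (sub b : B₁) := by
        simp only [sub, LinearMap.coe_mk, AddHom.coe_mk, map_add, map_mul,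
          Algebra.smul_def, AlgHom.commutes, Algebra.algebraMap_self, RingHom.id_apply, Submodule.coe_add]
        ring
      rw [this]
      exact Ideal.mul_mem_mul (hmemP a) (hmemP b)
    let D₁ : Derivation A B₁ T := Derivation.mk' L hL
    have hlift : ∀ s : P.primeCompl, IsUnit (algebraMap B₁ (Module.End B₁ T) (s : B₁)) := by
      intro s
      rw [Module.End.isUnit_iff]
      have hu : IsUnit (algebraMap B₁ B (s : B₁)) := IsLocalization.map_units B s
      have : (algebraMap B₁ (Module.End B₁ T) (s : B₁) : T → T) =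
          fun t ↦ (algebraMap B₁ B (s : B₁)) • t := by
        funext t; simp [Module.algebraMap_end_apply, IsScalarTower.algebraMap_smul]
      rw [this]
      exact hu.smul_bijective
    let g := IsLocalizedModule.lift P.primeCompl (KaehlerDifferential.map A A B₁ B)
      D₁.liftKaehlerDifferential hlift
    let r : Ω[B⁄A] →ₗ[B] T := g.extendScalarsOfIsLocalization P.primeCompl B
    have hr : ∀ x : B₂, r (KaehlerDifferential.D A B (algebraMap B₂ B x)) =
        (1 : κ) ⊗ₜ[B] ((1 : B) ⊗ₜ[B₂] KaehlerDifferential.D A B₂ x) := by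
      intro x
      have h1 : KaehlerDifferential.D A B (algebraMap B₂ B x) =
          KaehlerDifferential.map A A B₁ B (KaehlerDifferential.D A B₁ (algebraMap B₂ B₁ x)) := by
        rw [KaehlerDifferential.map_D, ← IsScalarTower.algebraMap_apply B₂ B₁ B]
      rw [h1]
      show g _ = _
      rw [IsLocalizedModule.lift_apply, Derivation.liftKaehlerDifferential_comp_D]
      show L (algebraMap B₂ B₁ x) = _
      have hσx : σ₁ (algebraMap B₂ B₁ x) = σ₂ x := by rw [← hσ]; rfl
      have hx : x - algebraMap A B₂ (σ₂ x) ∈ RingHom.ker σ₂ := by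
        rw [RingHom.mem_ker, map_sub, AlgHom.commutes]; simp
      have h2 : e ((RingHom.ker σ₂).toCotangent ⟨_, hx⟩) =
          (RingHom.ker σ₁).toCotangent (sub (algebraMap B₂ B₁ x)) := by
        show (RingHom.ker σ₁).toCotangent ⟨IsScalarTower.toAlgHom A B₂ B₁ _, _⟩ = _
        congr 1
        apply Subtype.ext
        simp [sub, hσx, ← IsScalarTower.algebraMap_apply A B₂ B₁]
      simp only [L, LinearMap.comp_apply, LinearMap.restrictScalars_apply, LinearEquiv.coe_coe]
      rw [← h2, LinearEquiv.symm_apply_apply]
      show (1 : κ) ⊗ₜ[B] ((1 : B) ⊗ₜ[B₂] KaehlerDifferential.D A B₂ (x - algebraMap A B₂ (σ₂ x))) = _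
      rw [map_sub, Derivation.map_algebraMap, sub_zero]
    let r' : κ ⊗[B] Ω[B⁄A] →ₗ[κ] T := r.liftBaseChange κ
    have hr' : ∀ t : T, r' (φ.lTensor κ t) = t := by
      intro t
      induction t using TensorProduct.induction_on with
      | zero => simp
      | add x y hx hy => rw [map_add, map_add, hx, hy]
      | tmul a m =>
        rw [LinearMap.lTensor_tmul]
        show r.liftBaseChange κ _ = _
        rw [LinearMap.liftBaseChange_tmul]
        have : r (φ m) = (1 : κ) ⊗ₜ[B] m := by
          induction m using TensorProduct.induction_on with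
          | zero => simp
          | add x y hx hy => rw [map_add, map_add, hx, hy, TensorProduct.tmul_add]
          | tmul b w =>
            have hw : w ∈ Submodule.span B₂ (Set.range (KaehlerDifferential.D A B₂)) := by
              rw [KaehlerDifferential.span_range_derivation]; exact Submodule.mem_top
            induction hw using Submodule.span_induction generalizing b with
            | mem z hz =>
              obtain ⟨y, rfl⟩ := hz
              rw [show (KaehlerDifferential.mapBaseChange A B₂ B) (b ⊗ₜ[B₂] KaehlerDifferential.D A B₂ y) =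
                  b • KaehlerDifferential.D A B (algebraMap B₂ B y) by
                rw [KaehlerDifferential.mapBaseChange_tmul, KaehlerDifferential.map_D]]
              rw [map_smul, hr, ← TensorProduct.tmul_smul, TensorProduct.smul_tmul', smul_eq_mul,
                mul_one]
            | zero => simp
            | add z w _ _ hz hw => simp only [TensorProduct.tmul_add, map_add, hz, hw]
            | smul s z _ hz =>
              rw [← TensorProduct.smul_tmul]
              exact hz _
        rw [this, TensorProduct.smul_tmul', smul_eq_mul, mul_one]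
    exact Function.LeftInverse.injective hr'

end Groth.Agent.EtCot
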